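import Groth.Agent.Lib.FiniteSub21.Line

/-!
# Powers on the multiplicative group
-/

set_option autoImplicit false
set_option linter.all false

universe u

open CategoryTheory CategoryTheory.Limits MonoidalCategory CartesianMonoidalCategory MonObj
  AlgebraicGeometry
open GrothLib.RedPts

namespace GrothLib.IsogGaGm24

variable {k : Type u} [Field k]

local notation "S₀" => Spec (CommRingCat.of k)

/-- Powers on the multiplicative group are surjective. -/
theorem surjective_pow_Gm (n : ℕ) (hn : 0 < n) : Surjective ((𝟙 (Red.Gm S₀)) ^ n).left := by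
  refine ⟨fun y => ?_⟩
  let K := AlgebraicClosure ((Red.Gm S₀).left.residueField y)
  let t : Spec (CommRingCat.of K) ⟶ (Red.Gm S₀).left :=
    Spec.map (CommRingCat.ofHom (algebraMap ((Red.Gm S₀).left.residueField y) K)) ≫
      (Red.Gm S₀).left.fromSpecResidueField y
  let T : Over S₀ := Over.mk (t ≫ (Red.Gm S₀).hom)
  let x : T ⟶ Red.Gm S₀ := Over.homMk t rfl
  let io := Scheme.ΓSpecIso (CommRingCat.of K)
  have hu : IsUnit (io.hom (Red.gmFn x)) := (GmPts.isUnit_gmFn x).map io.hom.hom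
  obtain ⟨r, hr⟩ := IsAlgClosed.exists_pow_nat_eq (io.hom (Red.gmFn x) : K) hn
  have hr0 : IsUnit r := (isUnit_pow_iff hn.ne').1 (hr ▸ hu)
  let z : T ⟶ Red.Gm S₀ := GmPts.ptOfUnit (Units.map io.inv.hom.toMonoidHom hr0.unit)
  have hz : z ≫ (𝟙 (Red.Gm S₀)) ^ n = x := by
    rw [MonObj.comp_pow, Category.comp_id]
    refine GmPts.gmFn_injective ?_
    show Red.gmFn (z ^ n) = Red.gmFn x
    have hpow : ∀ m : ℕ, Red.gmFn (z ^ m) = Red.gmFn z ^ m := fun m => by
      induction m with
      | zero => rw [pow_zero, pow_zero, GmPts.gmFn_one]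
      | succ m ih => rw [pow_succ, pow_succ, GmPts.gmFn_mul, ih]
    rw [hpow, GmPts.gmFn_ptOfUnit]
    refine (map_pow io.inv.hom r n).symm.trans ?_
    rw [hr]
    exact congr($(io.hom_inv_id) (Red.gmFn x))
  refine ⟨z.left (IsLocalRing.closedPoint K), ?_⟩
  exact (congrArg (fun (w : T ⟶ Red.Gm S₀) => w.left (IsLocalRing.closedPoint K)) hz).trans
    ((Red.Gm S₀).left.fromSpecResidueField_apply y _)

/-- The powers on the multiplicative group are finite. -/
theorem isFinite_pow_Gm (S : Scheme.{u}) (n : ℕ) (hn : 0 < n) : IsFinite ((𝟙 (Red.Gm S)) ^ n).left := by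
  let φ : ℤ →+ ℤ := zmultiplesHom ℤ (n : ℤ)
  let σ := Limits.IsTerminal.from specULiftZIsTerminal S
  have hfst : (Red.DSmap S φ).left ≫ pullback.fst _ σ = pullback.fst _ σ ≫ (Red.diagMap (ULift.{u} ℤ) φ).left :=
    pullback.lift_fst _ _ _
  have hsnd : (Red.DSmap S φ).left ≫ pullback.snd _ σ = pullback.snd _ σ :=
    (pullback.lift_snd _ _ _)
  let A := MonoidAlgebra (ULift.{u} ℤ) (Multiplicative ℤ)
  let τ : A →+* A :=
    (MonoidAlgebra.mapDomainAlgHom (ULift.{u} ℤ) (ULift.{u} ℤ) (AddMonoidHom.toMultiplicative φ)).toRingHom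
  have hτ : ∀ j : ℤ, τ (MonoidAlgebra.single (Multiplicative.ofAdd j) 1) =
      MonoidAlgebra.single (Multiplicative.ofAdd j) 1 ^ n := fun j => by
    show MonoidAlgebra.mapDomain _ (MonoidAlgebra.single (Multiplicative.ofAdd j) (1 : ULift.{u} ℤ)) = _
    rw [MonoidAlgebra.mapDomain_single, MonoidAlgebra.single_pow, one_pow]
    simp [φ, mul_comm, ← ofAdd_nsmul]
  have hτ1 : ∀ j : ℤ, τ.IsIntegralElem (MonoidAlgebra.single (Multiplicative.ofAdd j) 1) := fun j => by
    refine ⟨Polynomial.X ^ n - Polynomial.C (MonoidAlgebra.single (Multiplicative.ofAdd j) 1),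
      Polynomial.monic_X_pow_sub_C _ hn.ne', ?_⟩
    rw [Polynomial.eval₂_sub, Polynomial.eval₂_pow, Polynomial.eval₂_X, Polynomial.eval₂_C, sub_eq_zero, hτ]
  have hint : τ.IsIntegral := fun r => by
    induction r using MonoidAlgebra.induction_on with
    | of g => exact hτ1 g.toAdd
    | add p q hp hq => exact RingHom.IsIntegralElem.add τ hp hq
    | smul c p hp =>
      rw [Algebra.smul_def]
      refine RingHom.IsIntegralElem.mul τ ?_ hp
      have : τ (algebraMap (ULift.{u} ℤ) A c) = algebraMap (ULift.{u} ℤ) A c := AlgHom.commutes _ c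
      rw [← this]
      exact τ.isIntegralElem_map
  have hft : τ.FiniteType :=
    RingHom.FiniteType.of_comp_finiteType (f := algebraMap (ULift.{u} ℤ) A) (by
      rw [show τ.comp (algebraMap (ULift.{u} ℤ) A) = algebraMap (ULift.{u} ℤ) A from
        RingHom.ext fun c => (MonoidAlgebra.mapDomainAlgHom (ULift.{u} ℤ) (ULift.{u} ℤ) (AddMonoidHom.toMultiplicative φ)).commutes c]
      exact RingHom.finiteType_algebraMap.mpr inferInstance)
  haveI hd : IsFinite (Red.diagMap (ULift.{u} ℤ) φ).left :=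
    (IsFinite.SpecMap_iff _).2 (RingHom.finite_iff_isIntegral_and_finiteType.2 ⟨hint, hft⟩)
  have sq : IsPullback (pullback.fst _ σ) (Red.DSmap S φ).left (Red.diagMap (ULift.{u} ℤ) φ).left
      (pullback.fst _ σ) := by
    refine IsPullback.of_bot ?_ hfst.symm (IsPullback.of_hasPullback _ σ)
    rw [hsnd, Over.w]
    exact IsPullback.of_hasPullback _ σ
  haveI hfin : IsFinite (Red.DSmap S φ).left := MorphismProperty.of_isPullback sq hd
  have e : (𝟙 (Red.Gm S)) ^ n = Red.DSmap S φ := by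
    have hpow : ∀ m : ℕ, Red.gmFn ((𝟙 (Red.Gm S)) ^ m) = Red.gmFn (𝟙 (Red.Gm S)) ^ m := fun m => by
      induction m with
      | zero => rw [pow_zero, pow_zero, GmPts.gmFn_one]
      | succ m ih => rw [pow_succ, pow_succ, GmPts.gmFn_mul, ih]
    refine GmPts.gmFn_injective ((hpow n).trans ?_)
    show _ = ((Red.DSmap S φ).left ≫ pullback.fst _ σ).appTop Red.gmCoord
    rw [hfst, Scheme.Hom.comp_appTop]
    refine Eq.trans ?_ (ConcreteCategory.comp_apply _ _ _).symm
    show ((Over.Hom.left (𝟙 (Red.Gm S))) ≫ pullback.fst _ σ).appTop Red.gmCoord ^ n = _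
    rw [Over.id_left, Category.id_comp]
    refine (map_pow (Scheme.Hom.appTop (pullback.fst _ σ)).hom _ n).symm.trans (congrArg _ ?_)
    refine Eq.trans ?_ (congr($(Scheme.ΓSpecIso_inv_naturality (CommRingCat.ofHom τ))
      (MonoidAlgebra.single (Multiplicative.ofAdd (1 : ℤ)) 1)))
    refine (map_pow (Scheme.ΓSpecIso (CommRingCat.of A)).inv.hom _ n).symm.trans (congrArg _ ?_)
    exact (hτ 1).symm
  rw [e]
  exact hfin

end GrothLib.IsogGaGm24
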