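import Groth.Agent.Lib.IsogGaGm24.Basic
import Groth.Agent.Lib.IsogGaGm24.Pow
import Groth.Agent.Lib.RankCell14.Compat

/-!
# A group isogenous to the multiplicative group is the multiplicative group
-/

set_option autoImplicit false
set_option linter.all false

universe u

open CategoryTheory CategoryTheory.Limits MonoidalCategory CartesianMonoidalCategory MonObj
  AlgebraicGeometry

namespace GrothLib.IsogGaGm24

theorem eq_of_specializes_of_finite {X Y : Scheme.{u}} (f : X ⟶ Y) [IsFinite f] {a b : X} (h : a ⤳ b)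
    (he : f a = f b) : b = a := by
  haveI := (f.isDiscrete_preimage_singleton (f b)).to_subtype
  have : (⟨a, he⟩ : ↥(f ⁻¹' {f b})) ⤳ ⟨b, rfl⟩ := Topology.IsInducing.subtypeVal.specializes_iff.1 h
  exact (congrArg Subtype.val this.eq).symm

set_option backward.isDefEq.respectTransparency false in
theorem isAffineHom_Ga (S : Scheme.{u}) : IsAffineHom (Red.Ga S).hom := by
  haveI : IsAffine Red.GaZ.{u}.left := isAffine_Spec _
  haveI : IsAffineHom Red.GaZ.{u}.hom := isAffineHom_of_isAffine _
  exact MorphismProperty.pullback_snd (P := @IsAffineHom) _ _ ‹IsAffineHom Red.GaZ.{u}.hom›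

variable {k : Type u} [Field k]

local notation "S₀" => Spec (CommRingCat.of k)

theorem isCommMonObj_Gm : IsCommMonObj (Red.Gm S₀) := by
  refine ⟨?_⟩
  rw [show μ[Red.Gm S₀] = fst (Red.Gm S₀) (Red.Gm S₀) * snd (Red.Gm S₀) (Red.Gm S₀) from MonObj.mul_eq_mul _,
    MonObj.comp_mul]
  refine GmPts.gmFn_injective ?_
  show Red.gmFn _ = Red.gmFn _
  rw [GmPts.gmFn_mul, GmPts.gmFn_mul, mul_comm]
  simp

theorem nonempty_iso_Gm (H : Over S₀) [GrpObj H] [Smooth H.hom] [ConnectedSpace ↥H.left]
    (f : H ⟶ Red.Gm S₀) [IsMonHom f] [IsFinite f.left] [Surjective f.left] :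
    Nonempty (Grp.mk H ≅ Grp.mk (Red.Gm S₀)) := by
  haveI : IsAffineHom (Red.Gm S₀).hom := DiagGrp.isAffineHom_DS _ _
  haveI : IsAffine (Red.Gm S₀).left := isAffine_of_isAffineHom (Red.Gm S₀).hom
  haveI : IsAffine H.left := isAffine_of_isAffineHom f.left
  haveI : Smooth (Red.Gm S₀).hom := TorusNorm25.smooth_of_isTorus (RankCell14.isTorus_Gm _)
  haveI : ConnectedSpace ↥(Red.Gm S₀).left := f.left.surjective.connectedSpace f.left.continuous
  haveI := isIntegral_of_smooth (Red.Gm S₀)
  haveI := isIntegral_of_smooth H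
  haveI := isCommMonObj_Gm (k := k)
  haveI := isCommMonObj_of_finite f
  haveI : Flat f.left := GrpSchField.flat_hom f
  haveI : IsLocallyNoetherian (Red.Gm S₀).left := LocallyOfFiniteType.isLocallyNoetherian (Red.Gm S₀).hom
  haveI : LocallyOfFinitePresentation f.left := inferInstance
  set n := Scheme.Hom.finrank f.left (η[Red.Gm S₀].left (IsLocalRing.closedPoint k)) with hn
  obtain ⟨g, _, hfg, hgf⟩ := GrpDeligne.exists_dual_hom f n fun s =>
    (Scheme.Hom.isLocallyConstant_finrank f.left).apply_eq_of_preconnectedSpace _ _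
  have hn0 : 0 < n := (Scheme.Hom.one_le_finrank_iff_surjective (f := f.left)).2 ‹_› _
  haveI : Surjective (g.left ≫ f.left) := by
    rw [← Over.comp_left, hgf]; exact surjective_pow_Gm n hn0
  haveI : IsAffineHom g.left := inferInstance
  haveI : Surjective g.left := by
    have hgen : ∀ {X Y : Scheme.{u}} [IsIntegral X] [IsIntegral Y] (h : X ⟶ Y) [Surjective h],
        h (genericPoint ↥X) = genericPoint ↥Y := fun {X Y} _ _ h _ => by
      refine ((genericPoint_spec ↥X).image h.continuous).eq ?_
      simpa [Set.range_eq_univ.2 h.surjective, Set.image_univ] using genericPoint_spec ↥Y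
    let ξ := g.left (genericPoint ↥(Red.Gm S₀).left)
    have h1 : f.left ξ = f.left (genericPoint ↥H.left) := by
      rw [hgen f.left]
      exact hgen (g.left ≫ f.left)
    have hs : genericPoint ↥H.left ⤳ ξ := genericPoint_specializes ξ
    have hξ : ξ = genericPoint ↥H.left :=
      eq_of_specializes_of_finite f.left hs h1.symm
    have hcl : IsClosed (Set.range g.left) := NeronCompGrp24.isClosed_range_hom g
    refine ⟨Set.range_eq_univ.1 (Set.eq_univ_of_univ_subset ?_)⟩
    rw [← (genericPoint_spec ↥H.left).def]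
    exact closure_minimal (Set.singleton_subset_iff.2 ⟨_, hξ⟩) hcl
  haveI : Flat g.left := GrpSchField.flat_hom g
  haveI : IsFinite (g.left ≫ f.left) := by
    rw [← Over.comp_left, hgf]; exact isFinite_pow_Gm _ n hn0
  haveI : IsFinite g.left := IsFinite.of_comp g.left f.left
  obtain ⟨N, _, i, _, hi, _, _⟩ := exists_finite_kernel g
  obtain ⟨φ, hm, hφ, hflat, hsurj⟩ := FiniteSub21.exists_endo_Gm i
  haveI : IsAffineHom φ.left := inferInstance
  exact nonempty_iso_of_same_kernel g φ i hi hφ

end GrothLib.IsogGaGm24
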