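import Groth.Agent.Lib.FiniteSub21.Line
import Groth.Agent.Lib.GrpSchField.HomFlat
import Groth.Agent.Lib.GrpDeligne.Factor
import Groth.Agent.Lib.NeronCompGrp24.Stab
import Groth.Agent.Lib.LangMap13.Main

/-!
# Groups isogenous to the additive or to the multiplicative group
-/

set_option autoImplicit false
set_option linter.all false
set_option backward.isDefEq.respectTransparency false

universe u

open CategoryTheory CategoryTheory.Limits MonoidalCategory CartesianMonoidalCategory MonObj
  AlgebraicGeometry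
open GrothLib.RedPts

namespace GrothLib.IsogGaGm24

variable {k : Type u} [Field k]

local notation "S₀" => Spec (CommRingCat.of k)

/-- Two faithfully flat quotients by the same kernel are isomorphic. -/
theorem nonempty_iso_of_same_kernel {G H H' N : Over S₀} [GrpObj G] [GrpObj H] [GrpObj H'] (f : G ⟶ H) [IsMonHom f]
    [Flat f.left] [Surjective f.left] [QuasiCompact f.left] (f' : G ⟶ H') [IsMonHom f'] [Flat f'.left]
    [Surjective f'.left] [QuasiCompact f'.left] (i : N ⟶ G) (hi : AlgGrp.IsKernel i f) (hi' : AlgGrp.IsKernel i f') :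
    Nonempty (Grp.mk H ≅ Grp.mk H') := by
  obtain ⟨g, hg, hfg⟩ := GrpDeligne.exists_factor f i hi f' (GrpDeligne.ker_comp_eq_one hi')
  obtain ⟨g', hg', hfg'⟩ := GrpDeligne.exists_factor f' i hi' f (GrpDeligne.ker_comp_eq_one hi)
  have : Epi f := (Over.forget _).epi_of_epi_map (inferInstanceAs (Epi f.left))
  have : Epi f' := (Over.forget _).epi_of_epi_map (inferInstanceAs (Epi f'.left))
  have h1 : g ≫ g' = 𝟙 H := by rw [← cancel_epi f, reassoc_of% hfg, hfg', Category.comp_id]
  have h2 : g' ≫ g = 𝟙 H' := by rw [← cancel_epi f', reassoc_of% hfg', hfg, Category.comp_id]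
  haveI : IsMonHom (Iso.mk g g' h1 h2).hom := hg
  exact ⟨Grp.mkIso' (Iso.mk g g' h1 h2)⟩

/-- The kernel of a finite homomorphism is a finite group scheme. -/
theorem exists_finite_kernel {G H : Over S₀} [GrpObj G] [GrpObj H] (f : G ⟶ H) [IsMonHom f] [IsFinite f.left] :
    ∃ (N : Over S₀) (_ : GrpObj N) (i : N ⟶ G), IsMonHom i ∧ AlgGrp.IsKernel i f ∧ IsFinite N.hom ∧ Mono i := by
  have hi : AlgGrp.IsKernel (pullback.fst f η[H]) f := by
    have := IsPullback.of_hasPullback f η[H]
    rwa [toUnit_unique (pullback.snd f η[H]) (toUnit _)] at this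
  obtain ⟨gN, hmon⟩ := GrpDeligne.exists_grpObj_kernel f _ hi
  refine ⟨_, gN, _, hmon, hi, ?_, GrpDeligne.mono_of_isKernel hi⟩
  have hsnd : IsFinite (pullback.snd f η[H]).left :=
    MorphismProperty.of_isPullback ((IsPullback.of_hasPullback f η[H]).map (Over.forget S₀)) ‹IsFinite f.left›
  rw [← Over.w (pullback.snd f η[H])]
  haveI : IsFinite (𝟙_ (Over S₀)).hom := inferInstanceAs (IsFinite (𝟙 S₀))
  infer_instance

/-- A morphism from an integral scheme with a rational point to a finite scheme is constant. -/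
theorem eq_const_of_isFinite {X N : Over S₀} [IsIntegral X.left] [IsFinite N.hom]
    (x : 𝟙_ (Over S₀) ⟶ X) (b : X ⟶ N) : b = toUnit X ≫ x ≫ b := by
  haveI : IsAffine N.left := isAffine_of_isAffineHom N.hom
  letI : Algebra k Γ(N.left, ⊤) := (scal N).toAlgebra
  letI : Algebra k Γ(X.left, ⊤) := (scal X).toAlgebra
  letI : Algebra k Γ((𝟙_ (Over S₀)).left, ⊤) := (scal (𝟙_ (Over S₀))).toAlgebra
  haveI : Module.Finite k Γ(N.left, ⊤) := FiniteSub21.finite_functions N
  haveI : Nontrivial Γ((𝟙_ (Over S₀)).left, ⊤) :=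
    (Scheme.ΓSpecIso (CommRingCat.of k)).commRingCatIsoToRingEquiv.toEquiv.nontrivial
  let bA : Γ(N.left, ⊤) →ₐ[k] Γ(X.left, ⊤) := ⟨b.left.appTop.hom, RingHom.congr_fun (appTop_scal b)⟩
  let xA : Γ(X.left, ⊤) →ₐ[k] Γ((𝟙_ (Over S₀)).left, ⊤) :=
    ⟨x.left.appTop.hom, RingHom.congr_fun (appTop_scal x)⟩
  haveI : Module.Finite k bA.range := Module.Finite.range bA.toLinearMap
  haveI := Algebra.IsIntegral.of_finite k bA.range
  have hF : IsField bA.range := isField_of_isIntegral_of_isField' (Field.toIsField k)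
  have hinj : Function.Injective (xA.comp bA.range.val) := by
    refine (injective_iff_map_eq_zero _).2 fun z hz => ?_
    by_contra h0
    obtain ⟨w, hw⟩ := hF.mul_inv_cancel h0
    have := congrArg (xA.comp bA.range.val) hw
    rw [map_mul, hz, zero_mul, map_one] at this
    exact zero_ne_one this
  have key : ∀ a, ∃ c : k, b.left.appTop a = scal X c ∧ (x ≫ b).left.appTop a = scal (𝟙_ (Over S₀)) c := by
    intro a
    obtain ⟨c, hc⟩ : ∃ c : k, scal (𝟙_ (Over S₀)) c = xA (bA a) := by
      have : Function.Surjective (scal (𝟙_ (Over S₀))) :=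
        (ConcreteCategory.bijective_of_isIso (Scheme.ΓSpecIso (CommRingCat.of k)).inv).2
      exact this _
    refine ⟨c, ?_, ?_⟩
    · have h := @hinj ⟨bA a, AlgHom.mem_range_self _ _⟩ (algebraMap k bA.range c) (by
        show xA (bA a) = xA (scal X c)
        rw [← hc]
        exact (RingHom.congr_fun (appTop_scal x) c).symm)
      exact congrArg Subtype.val h
    · rw [hc, Over.comp_left, Scheme.Hom.comp_appTop, CommRingCat.comp_apply]
      rfl
  ext1
  apply ext_of_isAffine
  ext a
  obtain ⟨c, h1, h2⟩ := key a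
  rw [h1, Over.comp_left, Scheme.Hom.comp_appTop, CommRingCat.comp_apply, h2]
  exact (RingHom.congr_fun (appTop_scal (toUnit X)) c).symm

/-- A smooth connected group over a field is integral. -/
theorem isIntegral_of_smooth (H : Over S₀) [GrpObj H] [Smooth H.hom] [ConnectedSpace ↥H.left] :
    IsIntegral H.left := by
  haveI := Neutral.geometricallyConnected_of_point H.hom (η[H] : 𝟙_ _ ⟶ H).left (Over.w _)
  haveI := Rigidity.geometricallyIntegral_of_smooth H
  haveI : Subsingleton ↥(Spec (CommRingCat.of k)) := inferInstanceAs (Subsingleton (PrimeSpectrum k))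
  haveI : IsLocallyNoetherian H.left := LocallyOfFiniteType.isLocallyNoetherian H.hom
  exact GeometricallyIntegral.isIntegral_of_subsingleton H.hom

/-- A smooth connected group with a finite homomorphism to a commutative group is commutative. -/
theorem isCommMonObj_of_finite {H T : Over S₀} [GrpObj H] [GrpObj T] [IsCommMonObj T] [Smooth H.hom]
    [ConnectedSpace ↥H.left] (f : H ⟶ T) [IsMonHom f] [IsFinite f.left] : IsCommMonObj H := by
  obtain ⟨N, _, i, _, hi, _, hmono⟩ := exists_finite_kernel f
  haveI := Neutral.geometricallyConnected_of_point H.hom (η[H] : 𝟙_ _ ⟶ H).left (Over.w _)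
  haveI := Rigidity.geometricallyIntegral_of_smooth H
  haveI : Subsingleton ↥(Spec (CommRingCat.of k)) := inferInstanceAs (Subsingleton (PrimeSpectrum k))
  haveI : IsLocallyNoetherian H.left := LocallyOfFiniteType.isLocallyNoetherian H.hom
  haveI : IsIntegral H.left := GeometricallyIntegral.isIntegral_of_subsingleton H.hom
  haveI : IsIntegral (H ⊗ H).left := inferInstanceAs (IsIntegral (pullback H.hom H.hom))
  let p := fst H H
  let q := snd H H
  have hc : (p * q * (q * p)⁻¹) ≫ f = 1 := by
    rw [MonObj.mul_comp, MonObj.mul_comp, GrpObj.inv_comp, MonObj.mul_comp]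
    group
    rw [_root_.mul_assoc, mul_comm (p ≫ f) (q ≫ f)]
    group
  obtain ⟨b, hb⟩ := GrpDeligne.exists_lift_ker hi _ hc
  have hb' := eq_const_of_isFinite (lift (1 : 𝟙_ (Over S₀) ⟶ H) 1) b
  have h1 : p * q * (q * p)⁻¹ = 1 := by
    rw [← hb, hb', Category.assoc, Category.assoc, hb]
    simp only [p, q, MonObj.comp_mul, GrpObj.comp_inv, lift_fst, lift_snd, MonObj.comp_one, _root_.one_mul, inv_one]
  have h2 : p * q = q * p := mul_inv_eq_one.1 h1
  refine ⟨?_⟩
  rw [show μ[H] = fst H H * snd H H from MonObj.mul_eq_mul H, MonObj.comp_mul]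
  simpa [p, q] using h2.symm

end GrothLib.IsogGaGm24
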